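import Cfsg.Agent.Blocks.Subsection.Major
import Cfsg.Agent.Blocks.Defect.CentralRankOne
import Cfsg.Agent.Blocks.HeightZero.InducedDefect
import Cfsg.Agent.Blocks.Orth.Blocks
import Cfsg.Agent.Blocks.Orth.Sums
import Cfsg.Agent.S0920

/-!
# Two-blocks of defect one

A block `B` with defect group `⟨x⟩` of order two and the block `b` of the centralizer of `x` inducing
it: the contributions of the subsection `(x, b)` are odd integers with row sums of squares twice the
diagonal and trace two, so `B` has exactly two characters, each `± θ` on the section of `x`.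
-/

set_option autoImplicit false
open Cfsg CfsgLib Polynomial
open CfsgLib.Blocks CfsgLib.Blocks.HeightZero CfsgLib.Blocks.Contrib
open scoped ComplexConjugate

namespace CfsgLib.Blocks.DefectOneTwo

universe u

variable {G : Type u} [Group G]

/-- A central `p`-subgroup lies in every defect group. -/
theorem le_defectGroup [Finite G] {p : ℕ} {M : Ideal AlgInt} {B : Set (IrrCharacter G)}
    (hM : IsPModular p M) {D Q : Subgroup G} (hD : IsDefectGroup p M B D) (hQ : IsPGroup p Q)
    (hQc : Q ≤ Subgroup.center G) : Q ≤ D := by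
  haveI : Fact p.Prime := ⟨hM.1⟩
  obtain ⟨g, -, P, rfl⟩ := hD
  have hQg : Q ≤ Subgroup.centralizer ({g} : Set G) := fun q hq =>
    Subgroup.mem_centralizer_singleton_iff.2 (Subgroup.mem_center_iff.1 (hQc hq) g).symm
  haveI : (Q.subgroupOf (Subgroup.centralizer ({g} : Set G))).Normal := ⟨fun n hn h => by
    rw [Subgroup.mem_subgroupOf] at hn ⊢
    have := Subgroup.mem_center_iff.1 (hQc hn) (h : G)
    push_cast
    rwa [this, mul_inv_cancel_right]⟩
  have hQp : IsPGroup p (Q.subgroupOf (Subgroup.centralizer ({g} : Set G))) :=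
    hQ.comap_of_injective _ (Subgroup.subtype_injective _)
  have hle : Q.subgroupOf (Subgroup.centralizer ({g} : Set G)) ≤ P :=
    (le_sup_left).trans_eq (P.is_maximal' (IsPGroup.to_sup_of_normal_left hQp P.isPGroup')
      le_sup_right)
  intro q hq
  exact ⟨⟨q, hQg hq⟩, hle hq, rfl⟩

/-- Only one block of the normalizer with defect group `D` induces a block with defect group `D`. -/
theorem eq_of_normalizer [Finite G] {p : ℕ} {M : Ideal AlgInt} (hM : IsPModular p M)
    {B : Set (IrrCharacter G)} (hB : IsPBlock M B) {D : Subgroup G} (hD : IsPGroup p D)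
    (hBD : IsDefectGroup p M B D) {H : Subgroup G} (hH : H = Subgroup.normalizer (D : Set G))
    {b b' : Set (IrrCharacter H)} (hb : IsInducedBlock M H b B)
    (hbD : IsDefectGroup p M b (D.subgroupOf H)) (hb' : IsInducedBlock M H b' B)
    (hbD' : IsDefectGroup p M b' (D.subgroupOf H)) : b' = b := by
  subst hH
  haveI : Fact p.Prime := ⟨hM.1⟩
  exact ((Cfsg.Agent.S0920.result p M hM D hD).2 B hB hBD).unique ⟨hb'.1, hbD', hb'⟩ ⟨hb.1, hbD, hb⟩

theorem normalizer_zpowers {x : G} (hx : orderOf x = 2) :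
    Subgroup.centralizer ({x} : Set G) =
      Subgroup.normalizer ((Subgroup.zpowers x : Subgroup G) : Set G) := by
  have hmem : ∀ y ∈ Subgroup.zpowers x, y = 1 ∨ y = x := by
    intro y hy
    obtain ⟨k, rfl⟩ := Subgroup.mem_zpowers_iff.1 hy
    have h2 : x ^ (2 : ℤ) = 1 := by
      rw [show (2 : ℤ) = ((2 : ℕ) : ℤ) from rfl, zpow_natCast, ← hx, pow_orderOf_eq_one]
    rcases Int.even_or_odd k with ⟨m, rfl⟩ | ⟨m, rfl⟩
    · left; rw [← two_mul, zpow_mul, h2, one_zpow]
    · right; rw [zpow_add, zpow_mul, h2, one_zpow, one_mul, zpow_one]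
  ext g
  rw [Subgroup.mem_centralizer_singleton_iff, Subgroup.mem_normalizer_iff]
  constructor
  · intro hg n
    constructor
    · intro hn
      rcases hmem n hn with rfl | rfl
      · simp
      · rw [hg, mul_inv_cancel_right]; exact Subgroup.mem_zpowers _
    · intro hn
      rcases hmem _ hn with h | h
      · rw [show n = 1 by simpa using h]; exact one_mem _
      · have : n = x := by
          calc n = g⁻¹ * (g * n * g⁻¹) * g := by group
            _ = g⁻¹ * (g * x) := by rw [h, mul_assoc, ← hg]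
            _ = x := inv_mul_cancel_left g x
        rw [this]
        exact Subgroup.mem_zpowers _
  · intro hg
    rcases hmem _ ((hg x).1 (Subgroup.mem_zpowers _)) with h | h
    · have : x = 1 := by simpa using h
      rw [this, orderOf_one] at hx
      omega
    · calc g * x = g * x * g⁻¹ * g := by group
        _ = x * g := by rw [h]

variable {M : Ideal AlgInt} {x : G} {B : Set (IrrCharacter G)}

theorem zpowers_le_center {H : Subgroup G} (hH : H = Subgroup.centralizer ({x} : Set G)) :
    (Subgroup.zpowers x).subgroupOf H ≤ Subgroup.center H := by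
  intro d hd
  rw [Subgroup.mem_subgroupOf] at hd
  obtain ⟨k, hk⟩ := Subgroup.mem_zpowers_iff.1 hd
  refine Subgroup.mem_center_iff.2 fun c => Subtype.ext ?_
  have hc : Commute (c : G) x := Subgroup.mem_centralizer_singleton_iff.1 (hH.le c.2)
  push_cast
  rw [← hk]
  exact (hc.zpow_right k).eq

/-- The defect groups of a block of the centralizer inducing `B`. -/
theorem defectGroup_centralizer [Finite G] (hM : IsPModular 2 M) (hx : orderOf x = 2)
    (hBD : IsDefectGroup 2 M B (Subgroup.zpowers x)) {H : Subgroup G} [Fintype H]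
    (hH : H = Subgroup.centralizer ({x} : Set G)) {b : Set (IrrCharacter H)}
    (hb : IsInducedBlock M H b B) :
    IsDefectGroup 2 M b ((Subgroup.zpowers x).subgroupOf H) := by
  haveI := Fintype.ofFinite G
  have hxH : x ∈ H := hH.ge (Subgroup.mem_centralizer_singleton_iff.2 rfl)
  have hzp : IsPGroup 2 (Subgroup.zpowers x) :=
    IsPGroup.of_card (n := 1) (by rw [Nat.card_zpowers, hx, pow_one])
  obtain ⟨D, hD⟩ := exists_defectGroup hM hb.1
  have h1 := le_defectGroup hM hD (hzp.comap_of_injective _ (Subgroup.subtype_injective H))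
    (zpowers_le_center hH)
  obtain ⟨E, hE, hle⟩ := exists_defectGroup_map_le hM hb hD
  obtain ⟨g, hg⟩ := defectGroup_conj_eq hM hb.2.1 hBD hE
  have hc := Subgroup.card_le_of_le hle
  rw [← hg, Subgroup.card_map_of_injective H.subtype_injective,
    Subgroup.card_map_of_injective (MulEquiv.injective _)] at hc
  have h2 : (Subgroup.zpowers x).subgroupOf H = D := by
    refine Subgroup.eq_of_le_of_card_ge h1 (hc.trans_eq ?_)
    exact (Nat.card_congr (Subgroup.subgroupOfEquivOfLe (Subgroup.zpowers_le.2 hxH)).toEquiv).symm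
  rwa [h2]

/-- The data of the subsection at `x`. -/
theorem exists_signs [Fintype G] (hM : IsPModular 2 M) (hx : orderOf x = 2) (hB : IsPBlock M B)
    (hBD : IsDefectGroup 2 M B (Subgroup.zpowers x)) {H : Subgroup G} [Fintype H]
    (hH : H = Subgroup.centralizer ({x} : Set G)) {b : Set (IrrCharacter H)}
    (hind : IsInducedBlock M H b B) {θ : IrrCharacter H} (hθ : θ ∈ b) :
    Nat.card B = 2 ∧ ∃ t : IrrCharacter G → ℤ, ∀ χ ∈ B, (t χ = 1 ∨ t χ = -1) ∧
      ∀ y : H, ¬ 2 ∣ orderOf y → (χ : G → ℂ) (x * y) = (t χ : ℂ) * (θ : H → ℂ) y := by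
  classical
  have := isMaximal_of_isPModular hM
  haveI : Fact (Nat.Prime 2) := ⟨Nat.prime_two⟩
  have hu : ∃ e : ℕ, orderOf x = 2 ^ e := ⟨1, by rw [hx, pow_one]⟩
  have hbD := defectGroup_centralizer hM hx hBD hH hind
  have hZc := zpowers_le_center (G := G) hH
  have hZ : Nat.card ((Subgroup.zpowers x).subgroupOf H) = 2 := by
    rw [Nat.card_congr (Subgroup.subgroupOfEquivOfLe (Subgroup.zpowers_le.2
      (hH.ge (Subgroup.mem_centralizer_singleton_iff.2 rfl)))).toEquiv, Nat.card_zpowers, hx]
  have hdb : blockDefect 2 b = 1 := by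
    have h := natCard_defectGroup hM hind.1 hbD
    rw [hZ] at h
    exact (Nat.pow_eq_self_iff (by norm_num : 1 < 2)).1 h.symm
  have hdB : blockDefect 2 B = 1 := by
    have h := natCard_defectGroup hM hB hBD
    rw [Nat.card_zpowers, hx] at h
    exact (Nat.pow_eq_self_iff (by norm_num : 1 < 2)).1 h.symm
  have hl : blockRank 2 b = 1 := blockRank_eq_one_of_central_defect hM hind.1 hZc hbD
  have h0 : ∀ χ ∈ B, blockHeight 2 B (χ : G → ℂ) = 0 := by
    intro χ hχ
    by_contra h
    have := height_add_two_le_blockDefect hM hB hχ h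
    omega
  -- the integral contributions
  set T := B.toFinite.toFinset with hT
  have hTm : ∀ χ, χ ∈ T ↔ χ ∈ B := fun χ => Set.Finite.mem_toFinset _
  have hP : ∀ χ ψ : IrrCharacter G, ∃ m : ℤ, contrib 2 b x χ ψ = (m : ℂ) ∧
      (χ ∈ B → ψ ∈ B → Odd m) := by
    intro χ ψ
    obtain ⟨P, hP⟩ := exists_poly (p := 2) hM hind.1 hH (N := 2) (by rw [← hx, pow_orderOf_eq_one])
      (IsPrimitiveRoot.neg_one 0 (by norm_num)) χ ψ
    have e1 : contrib 2 b x χ ψ = ((P.eval (-1) : ℤ) : ℂ) := by
      have := hP 1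
      rw [pow_one, pow_one, show (-1 : ℂ) = algebraMap ℤ ℂ (-1) by simp,
        aeval_algebraMap_apply_eq_algebraMap_eval] at this
      simpa using this
    refine ⟨_, e1, fun hχ hψ => ?_⟩
    have e0 : contrib 2 b (1 : G) χ ψ = ((P.eval 1 : ℤ) : ℂ) := by
      have := hP 0
      rw [pow_zero, pow_zero, show (1 : ℂ) = algebraMap ℤ ℂ 1 by simp,
        aeval_algebraMap_apply_eq_algebraMap_eval] at this
      simpa using this
    have hu1 : ¬ (2 : ℤ) ∣ P.eval 1 := by
      intro hd
      refine not_memLocalIdeal_contrib_one hM hind hχ (h0 χ hχ) hψ (h0 ψ hψ) ?_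
      rw [e0]
      have : MemLocalIdeal M (((P.eval 1 : ℤ) : AlgInt) : ℂ) :=
        memLocalIdeal_coe_iff.2 ((intCast_mem_iff hM _).2 (by simpa using hd))
      simpa using this
    have hsub : ((1 : ℤ) - -1) ∣ P.eval 1 - P.eval (-1) := sub_dvd_eval_sub _ _ _
    norm_num at hsub
    rw [Int.odd_iff]
    omega
  choose m hm hodd using hP
  have hrow : ∀ χ, ∑ ψ ∈ T, m χ ψ ^ 2 = 2 * m χ χ := by
    intro χ
    have h := sum_contrib_mul_conj hM hH hu hind χ
    simp only [hm, map_intCast, hdb, pow_one] at h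
    rw [← Int.cast_inj (α := ℂ)]
    push_cast
    simpa [hT, pow_two] using h
  have htr : ∑ χ ∈ T, m χ χ = 2 := by
    have h := sum_contrib_self hM hH hu hind
    simp only [hm, hdb, hl] at h
    exact_mod_cast (by simpa [hT] using h : ((∑ χ ∈ T, m χ χ : ℤ) : ℂ) = ((2 : ℤ) : ℂ))
  have hsq : ∀ χ ∈ T, ∀ ψ ∈ T, 1 ≤ m χ ψ ^ 2 := by
    intro χ hχ ψ hψ
    have h := hodd χ ψ ((hTm _).1 hχ) ((hTm _).1 hψ)
    have : m χ ψ ≠ 0 := fun h0 => by simp [h0] at h
    have := abs_pos.2 this
    nlinarith [sq_abs (m χ ψ)]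
  have hlow : ∀ χ ∈ T, (T.card : ℤ) ≤ 2 * m χ χ := fun χ hχ => by
    rw [← hrow χ]
    calc (T.card : ℤ) = ∑ ψ ∈ T, 1 := by simp
      _ ≤ _ := Finset.sum_le_sum (hsq χ hχ)
  have hk : T.card = 2 := by
    have h1 : (T.card : ℤ) * T.card ≤ 4 := by
      calc (T.card : ℤ) * T.card = ∑ χ ∈ T, (T.card : ℤ) := by simp
        _ ≤ ∑ χ ∈ T, 2 * m χ χ := Finset.sum_le_sum hlow
        _ = 4 := by rw [← Finset.mul_sum, htr]; norm_num
    have hne : T.Nonempty := by
      obtain ⟨χ, hχ⟩ := nonempty_of_isPBlock hB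
      exact ⟨χ, (hTm χ).2 hχ⟩
    have h2 : T.card ≤ 2 := by
      have : (T.card : ℤ) ≤ 2 := by nlinarith
      exact_mod_cast this
    have h3 := Finset.card_pos.2 hne
    by_contra hcon
    obtain ⟨χ, hχ⟩ := Finset.card_eq_one.1 (by omega : T.card = 1)
    rw [hχ, Finset.sum_singleton] at htr
    have := hodd χ χ ((hTm _).1 (by simp [hχ])) ((hTm _).1 (by simp [hχ]))
    rw [Int.odd_iff] at this
    omega
  have hdiag : ∀ χ ∈ T, m χ χ = 1 := by
    intro χ hχ
    obtain ⟨ψ, hψ⟩ := Finset.card_eq_one.1 (by rw [Finset.card_erase_of_mem hχ, hk] :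
      (T.erase χ).card = 1)
    have h := Finset.add_sum_erase T (fun φ => m φ φ) hχ
    rw [htr, hψ, Finset.sum_singleton] at h
    have := hlow χ hχ
    have := hlow ψ (Finset.mem_of_mem_erase (hψ.symm ▸ Finset.mem_singleton_self ψ))
    omega
  refine ⟨by rw [Nat.card_eq_card_finite_toFinset B.toFinite]; exact hk, ?_⟩
  -- the values
  have hprop : ∀ χ : IrrCharacter G, ∃ c : ℂ, ∀ s ∈ regSet 2 H,
      sectPart b x χ s = c * (θ : H → ℂ) s := by
    intro χ
    have hex : ∀ ξ : IrrCharacter H, ∃ c : ℂ, ξ ∈ b →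
        pRegularPart 2 (ξ : H → ℂ) = c • pRegularPart 2 (θ : H → ℂ) := by
      intro ξ
      by_cases h : ξ ∈ b
      · obtain ⟨c, hc⟩ := pRegularPart_eq_smul_of_central_defect hM hind.1 hZc hbD hθ h
        exact ⟨c, fun _ => hc⟩
      · exact ⟨0, fun h' => absurd h' h⟩
    choose c hc using hex
    refine ⟨∑ ξ ∈ b.toFinite.toFinset,
      classInner (fun y : H => (χ : G → ℂ) (x * (y : G))) (ξ : H → ℂ) * c ξ, fun s hs => ?_⟩
    rw [sectPart, blockPart_apply_eq, Finset.sum_apply, Finset.sum_mul]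
    refine Finset.sum_congr rfl fun ξ hξ => ?_
    have h := congrFun (hc ξ ((Set.Finite.mem_toFinset _).1 hξ)) s
    simp only [pRegularPart, mem_regSet.1 hs, if_true, Pi.smul_apply, smul_eq_mul] at h
    rw [Pi.smul_apply, smul_eq_mul, h]
    ring
  choose c hc using hprop
  obtain ⟨R, hR⟩ := exists_int_scale_regPair hM hind.1 hθ hθ
  rw [hdb, pow_one, regPair_eq_sum_regSet] at hR
  have hcontrib : ∀ χ, contrib 2 b x χ χ = c χ * conj (c χ) * R := by
    intro χ
    rw [contrib, hdb, pow_one, hR]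
    rw [Finset.sum_congr rfl fun s hs => show sectPart b x χ s * conj (sectPart b x χ s) =
      c χ * conj (c χ) * ((θ : H → ℂ) s * conj ((θ : H → ℂ) s)) by
        rw [hc χ s hs, map_mul]; ring, ← Finset.mul_sum]
    ring
  have hnorm : ∀ s : H, (θ : H → ℂ) s * conj ((θ : H → ℂ) s) =
      (Complex.normSq ((θ : H → ℂ) s) : ℂ) := fun s => Complex.mul_conj _
  have hR1 : R ≤ 1 := by
    have h := card_mul_regular_normSq_le hM hZc
      ((IsPGroup.of_card (n := 1) (by rw [hZ, pow_one]) : IsPGroup 2 _)) θ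
    rw [hZ] at h
    have h2 : ((R : ℝ) : ℂ) = (((2 : ℝ) * ∑ s ∈ regSet 2 H, Complex.normSq ((θ : H → ℂ) s)) /
        (Nat.card H : ℝ) : ℝ) := by
      push_cast
      rw [hR, Finset.sum_congr rfl fun s _ => hnorm s]
      push_cast
      ring
    have h3 := Complex.ofReal_injective h2
    have hHR : (0 : ℝ) < Nat.card H := Nat.cast_pos.2 Nat.card_pos
    have : (R : ℝ) ≤ 1 := by
      rw [h3, div_le_one hHR]
      have e : regSet 2 H = Finset.univ.filter (fun s : H => ¬ 2 ∣ orderOf s) := by
        ext s; simp [mem_regSet, IsPRegular]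
      rw [e]
      exact_mod_cast h
    exact_mod_cast this
  have hone : ∀ χ ∈ T, Complex.normSq (c χ) = 1 := by
    intro χ hχ
    have h := hcontrib χ
    rw [hm, hdiag χ hχ, Int.cast_one, Complex.mul_conj] at h
    have h' : (1 : ℝ) = Complex.normSq (c χ) * (R : ℝ) := by exact_mod_cast h
    have hn := Complex.normSq_nonneg (c χ)
    have hRpos : (0 : ℝ) < R := by
      by_contra hle
      nlinarith
    have : R = 1 := by
      have : 0 < R := by exact_mod_cast hRpos
      omega
    rw [this] at h'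
    simpa using h'.symm
  -- reality
  obtain ⟨z, hz, hzx⟩ := mem_center_of_eq_centralizer (u := x) hH
  have hz2 : z * z = 1 := Subtype.ext (by
    push_cast; rw [hzx, ← pow_two, ← hx, pow_orderOf_eq_one])
  have hreal : ∀ χ : IrrCharacter G, conj (c χ) = c χ := by
    intro χ
    obtain ⟨n, -, hn, -⟩ := Chars.exists_restrict_coeff χ H
    have hw : ∀ η : IrrCharacter H, conj ((η : H → ℂ) z / (η : H → ℂ) 1) =
        (η : H → ℂ) z / (η : H → ℂ) 1 := by
      intro η
      have h := Chars.map_mul_of_mem_center η hz z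
      rw [hz2] at h
      set w := (η : H → ℂ) z / (η : H → ℂ) 1 with hwdef
      have hww : w * w = 1 := by
        have h1 := Chars.map_one_ne_zero η
        have hzv : (η : H → ℂ) z = w * (η : H → ℂ) 1 := by rw [hwdef, div_mul_cancel₀ _ h1]
        rw [hzv] at h
        apply mul_right_cancel₀ h1
        rw [one_mul, mul_assoc]
        exact h.symm
      rcases mul_self_eq_one_iff.1 hww with e | e <;> rw [e] <;> simp
    have hf : (fun y : H => (χ : G → ℂ) (x * (y : G))) = ∑ η : IrrCharacter H,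
        ((n η : ℂ) * ((η : H → ℂ) z / (η : H → ℂ) 1)) • (η : H → ℂ) := by
      funext y
      have := congrFun hn (z * y)
      simp only [Subgroup.coe_mul, hzx] at this
      rw [this]
      simp only [Finset.sum_apply, Pi.smul_apply, smul_eq_mul,
        Chars.map_mul_of_mem_center _ hz y, mul_assoc]
    have h1 : sectPart b x χ 1 = c χ * (θ : H → ℂ) 1 :=
      hc χ 1 (mem_regSet.2 (by simp [IsPRegular]))
    have h2 : conj (sectPart b x χ 1) = sectPart b x χ 1 := by
      rw [sectPart, blockPart_apply_eq, Finset.sum_apply, map_sum]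
      refine Finset.sum_congr rfl fun ξ _ => ?_
      rw [Pi.smul_apply, smul_eq_mul, hf, Chars.classInner_sum_smul, map_mul, map_mul, map_natCast,
        hw, ← Chars.coe_charDegree, map_natCast]
    rw [h1, map_mul, ← Chars.coe_charDegree, map_natCast] at h2
    exact mul_right_cancel₀ (Nat.cast_ne_zero.2 (Chars.charDegree_pos θ).ne') h2
  refine ⟨fun χ => if c χ = 1 then 1 else -1, fun χ hχ => ⟨?_, fun y hy => ?_⟩⟩
  · by_cases h : c χ = 1 <;> simp [h]
  · have hsign : c χ = 1 ∨ c χ = -1 := by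
      have h := Complex.mul_conj (c χ)
      rw [hreal, hone χ ((hTm χ).2 hχ), Complex.ofReal_one] at h
      exact mul_self_eq_one_iff.1 h
    have hval : ((if c χ = 1 then 1 else -1 : ℤ) : ℂ) = c χ := by
      rcases hsign with h | h <;> norm_num [h]
    have hy' : IsPRegular 2 y := hy
    rw [hval, ← hc χ y (mem_regSet.2 hy'), sectPart]
    refine eq_blockPart_of_others (G := H) hM (isClassFunction_translate hH χ) hind.1 y
      fun b' hb' hne => blockPart_section_eq_zero hM hH hu hb' hB (fun hi => hne ?_) hχ hy'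
    exact eq_of_normalizer hM hB (IsPGroup.of_card (n := 1) (by rw [Nat.card_zpowers, hx, pow_one]))
      hBD (hH.trans (normalizer_zpowers hx)) hind hbD hi (defectGroup_centralizer hM hx hBD hH hi)

end CfsgLib.Blocks.DefectOneTwo
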